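import Cfsg.Agent.H452.HT.DeadTw
import Cfsg.Agent.H203.LSG2
import Cfsg.Agent.H203.LSSz
import Cfsg.Agent.H203.LSTwF4
import Cfsg.Agent.TitsK.RankRK
import Cfsg.Agent.S1055
import Cfsg.Agent.S1059
import Cfsg.Agent.S1068
import Cfsg.Agent.S1069
import Cfsg.Agent.S1072
import Cfsg.Agent.S1073
import Cfsg.Agent.S1074
import Cfsg.Agent.S1162
import Cfsg.Agent.S1163
import Cfsg.Agent.S2121
import Cfsg.Agent.S2126
import Cfsg.Agent.S2127
import Cfsg.Agent.S2128

/-!
# S3540, quasisimple rows: `G2(s)`, `Sz(s)`, `²G₂(s)`, `²F₄(s)`, the Tits group in cross characteristic (helper452)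
-/

set_option autoImplicit false

universe u v

namespace Cfsg.Agent.H452.HT.Ex

open Cfsg Cfsg.Lie Cfsg.Agent.H915.LD Cfsg.Agent.H337.HT Cfsg.Agent.H452.HT.Tw

section rows

variable {F : Type u} [Field F] [Finite F] {n p : ℕ} [Fact p.Prime] [CharP F p]
  {P : Subgroup (Matrix.GeneralLinearGroup (Fin n) F)} {K : Type} [Field K] [Fintype K]

/-! ### `G₂` -/

theorem num_G2 {s : ℕ} (hs : 7 ≤ s) : s ^ 32 ≤ 2 * 5 ^ ((s - 1) * s ^ 1 - 2) := by
  induction s, hs using Nat.le_induction with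
  | base => norm_num
  | succ s hs ih =>
    have h1 : 7 ^ 32 * (s + 1) ^ 32 ≤ 7 ^ 32 * (s ^ 32 * 5 ^ (2 * s)) := by
      calc 7 ^ 32 * (s + 1) ^ 32 = (7 * (s + 1)) ^ 32 := (mul_pow _ _ _).symm
        _ ≤ (8 * s) ^ 32 := Nat.pow_le_pow_left (by omega) _
        _ = 8 ^ 32 * s ^ 32 := mul_pow _ _ _
        _ ≤ (7 ^ 32 * 5 ^ 14) * s ^ 32 := Nat.mul_le_mul_right _ (by norm_num)
        _ ≤ (7 ^ 32 * 5 ^ (2 * s)) * s ^ 32 :=
          Nat.mul_le_mul_right _ (Nat.mul_le_mul_left _ (Nat.pow_le_pow_right (by norm_num) (by omega)))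
        _ = _ := by ring
    have h2 := Nat.le_of_mul_le_mul_left h1 (by norm_num)
    calc (s + 1) ^ 32 ≤ s ^ 32 * 5 ^ (2 * s) := h2
      _ ≤ (2 * 5 ^ ((s - 1) * s ^ 1 - 2)) * 5 ^ (2 * s) := Nat.mul_le_mul_right _ ih
      _ = _ := by
        rw [mul_assoc, ← pow_add]
        congr 2
        obtain ⟨t, rfl⟩ : ∃ t, s = t + 1 := ⟨s - 1, by omega⟩
        rw [Nat.add_sub_cancel, Nat.add_sub_cancel, pow_one, pow_one]
        have h3 : (t + 1) * (t + 1 + 1) = t * (t + 1) + 2 * (t + 1) := by ring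
        have h4 : 6 * 7 ≤ t * (t + 1) := Nat.mul_le_mul (by omega) (by omega)
        omega

theorem card_G2_le {s : ℕ} (hs : Fintype.card K = s) : Nat.card (chevG2.group K) ≤ s ^ 14 := by
  rw [S1059.result hs]
  calc s ^ 6 * (s ^ 2 - 1) * (s ^ 6 - 1)
      ≤ s ^ 6 * s ^ 2 * s ^ 6 := by gcongr <;> exact Nat.sub_le _ _
    _ = s ^ 14 := by ring

theorem dvd_G2 {s : ℕ} (hs : Fintype.card K = s) : s ∣ Nat.card (chevG2.group K) := by
  rw [S1059.result hs]
  simp only [mul_assoc]
  exact Dvd.dvd.mul_right (dvd_pow_self s (by norm_num)) _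

theorem dead_G2 (hC : Core P) (hn : 13 ≤ n) (hp : ¬ p ∣ Nat.card (Soc P)) (h3K : 3 ≤ Fintype.card K)
    (e : Nonempty (Soc P ≃* chevG2.group K)) : Dead n (Soc P) := by
  obtain ⟨r, f, hr, hrc, hf, hqf, hfq, hrq⟩ := exists_prime (K := K) (q := Fintype.card K) (m := 1)
    (FiniteField.isPrimePow_card K) (by norm_num) (pow_one _).symm
  have hr' : Fact r.Prime := ⟨hr⟩
  have hr0 : (r : F) ≠ 0 := ne_zero hp hr e (hrq.trans (dvd_G2 rfl))
  have hex : ∃ x : K, x ≠ 0 ∧ x ≠ 1 := by
    classical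
    by_contra hcon
    push Not at hcon
    have h1 : (Finset.univ : Finset K) ⊆ {0, 1} := by
      intro x _
      by_cases hx : x = 0
      · simp [hx]
      · simp [hcon x hx]
    have h2 := Finset.card_le_card h1
    have h3 : ({0, 1} : Finset K).card ≤ 2 := Finset.card_le_two
    rw [Finset.card_univ] at h2
    omega
  have hs := S1055.result (F := K) hex
  have hsim := hs.1
  have hA := card_aut hs.2
  rw [S2121.result (F := K) r f hqf (by rw [← hqf]; exact h3K)] at hA
  obtain ⟨s, hs'⟩ : ∃ s, s = Fintype.card K := ⟨_, rfl⟩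
  have hls : 7 ≤ s → (s - 1) * s ^ 1 ≤ n := by
    intro h7
    rw [pow_one, hs', ← Nat.card_eq_fintype_card]
    exact le_of_ls' hC hr0 (H203.LS.G2.ls.{0, u, u} (r := r) K (by rw [Nat.card_eq_fintype_card]; omega)
      (by rw [Nat.card_eq_fintype_card]; omega)) e
  obtain ⟨e⟩ := e
  haveI : Finite (chevG2.group K) := by
    haveI : Finite (Soc P) := inferInstance
    exact Finite.of_equiv _ e.toEquiv
  rw [← hs'] at hqf hfq hrq h3K
  have ho := S1059.result hs'.symm
  by_cases h7 : 7 ≤ s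
  · have ha : Nat.card (MulAut (chevG2.group K)) ≤ s ^ 16 := by
      have hle : (if r = 3 then 2 * f else f) ≤ s * s := by
        split_ifs
        · exact Nat.mul_le_mul (by omega) hfq.le
        · calc f ≤ 1 * s := by omega
            _ ≤ s * s := Nat.mul_le_mul_right _ (by omega)
      calc Nat.card (MulAut (chevG2.group K)) = Nat.card (chevG2.group K) * (if r = 3 then 2 * f else f) := hA
        _ ≤ s ^ 14 * (s * s) := Nat.mul_le_mul (card_G2_le hs'.symm) hle
        _ = s ^ 16 := by ring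
    have h42 : 6 * 7 ≤ (s - 1) * s := Nat.mul_le_mul (by omega) h7
    refine dead_of_le (b := 5) (k := 1) e (by omega) ha (fun q hq hc => ?_)
      (by rw [show 2 * 16 = 32 by norm_num]; exact num_G2 h7)
      (by rw [pow_one]; omega) (by norm_num) (hls h7)
    -- `6 ∣ |G2(s)|`
    have h6 : 6 ∣ Nat.card (chevG2.group K) := by
      rw [ho]
      have hco : Nat.Coprime 2 3 := by norm_num
      refine hco.mul_dvd_of_dvd_of_dvd ?_ ?_
      · rcases Nat.even_or_odd s with h | h
        · exact (((h.two_dvd.trans (dvd_pow_self s (by norm_num : (6 : ℕ) ≠ 0))).mul_right _).mul_right _)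
        · have h8 : Even (s ^ 2 - 1) := by
            obtain ⟨t, ht⟩ := h
            refine ⟨2 * t ^ 2 + 2 * t, ?_⟩
            have : s ^ 2 = 4 * t ^ 2 + 4 * t + 1 := by rw [ht]; ring
            omega
          exact (h8.two_dvd.mul_left _).mul_right _
      · by_cases h : 3 ∣ s
        · exact (((h.trans (dvd_pow_self s (by norm_num : (6 : ℕ) ≠ 0))).mul_right _).mul_right _)
        · have h8 : 3 ∣ s ^ 2 - 1 := by
            have h9 : s % 3 = 1 ∨ s % 3 = 2 := by omega
            have h10 : s ^ 2 % 3 = 1 := by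
              rcases h9 with h9 | h9 <;> rw [Nat.pow_mod, h9]
            omega
          exact (h8.mul_left _).mul_right _
    have h7' : Nat.Coprime q 6 := hc.coprime_dvd_right h6
    by_contra hlt
    have : q = 2 ∨ q = 3 ∨ q = 4 := by omega
    rcases this with rfl | rfl | rfl <;> revert h7' <;> decide
  · have h8 : s = 3 ∨ s = 4 ∨ s = 5 ∨ s = 6 := by omega
    rcases h8 with rfl | rfl | rfl | rfl
    · have hr3 : r = 3 := (Nat.prime_dvd_prime_iff_eq hr Nat.prime_three).1 hrq
      subst hr3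
      have hf1 : f = 1 := by
        by_contra hf1
        have h2 : 3 ^ 2 ≤ 3 ^ f := Nat.pow_le_pow_right (by norm_num) (by omega)
        omega
      subst hf1
      norm_num at ho
      exact Dead.congr e.symm (sieve_dead (o := 4245696) (A := 8491392) (n₀ := 13)
        5 60 40 ho (by rw [hA, ho]; norm_num) (by norm_num) (by norm_num) (by norm_num) (by decide +kernel)
        (by decide +kernel) hn)
    · have hr2 : r = 2 := (Nat.prime_dvd_prime_iff_eq hr Nat.prime_two).1
        (hr.dvd_of_dvd_pow (show r ∣ 2 ^ 2 from hrq))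
      subst hr2
      have hf1 : f = 2 := by
        have h2 : (2 : ℕ) ^ 2 = 2 ^ f := by rw [← hqf]; norm_num
        exact (Nat.pow_right_injective le_rfl h2).symm
      subst hf1
      norm_num at ho
      exact Dead.congr e.symm (sieve_dead (o := 251596800) (A := 503193600) (n₀ := 13)
        11 60 40 ho (by rw [hA, ho]; norm_num) (by norm_num) (by norm_num) (by norm_num) (by decide +kernel)
        (by decide +kernel) hn)
    · have hr5 : r = 5 := (Nat.prime_dvd_prime_iff_eq hr Nat.prime_five).1 hrq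
      subst hr5
      have hf1 : f = 1 := by
        by_contra hf1
        have h2 : 5 ^ 2 ≤ 5 ^ f := Nat.pow_le_pow_right (by norm_num) (by omega)
        omega
      subst hf1
      norm_num at ho
      exact Dead.congr e.symm (sieve_dead (o := 5859000000) (A := 5859000000) (n₀ := 13)
        11 60 40 ho (by rw [hA, ho]; norm_num) (by norm_num) (by norm_num) (by norm_num) (by decide +kernel)
        (by decide +kernel) hn)
    · exfalso
      have h2 : r = 2 ∨ r = 3 := by
        have : r ∣ 2 * 3 := hrq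
        rcases (hr.dvd_mul).1 this with h | h
        · exact Or.inl ((Nat.prime_dvd_prime_iff_eq hr Nat.prime_two).1 h)
        · exact Or.inr ((Nat.prime_dvd_prime_iff_eq hr Nat.prime_three).1 h)
      rcases h2 with rfl | rfl
      · have : 3 ∣ 2 ^ f := by rw [← hqf]; norm_num
        have := Nat.prime_three.dvd_of_dvd_pow this
        omega
      · have : 2 ∣ 3 ^ f := by rw [← hqf]; norm_num
        have := Nat.prime_two.dvd_of_dvd_pow this
        omega

/-! ### The Tits group -/

omit [Field F] [Finite F] [Fact p.Prime] [CharP F p] [Field K] [Fintype K] in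
theorem dead_tits_aux {T : Type v} [Group T] [Finite T] [IsSimpleGroup T] (hna : ¬ IsMulCommutative T)
    (h : IsoTits T) (ho : Nat.card T = 17971200) (hn : 13 ≤ n) : Dead n T := by
  have hinj : Function.Injective (MulAut.conj : T →* MulAut T) := by
    rw [← MonoidHom.ker_eq_bot_iff]
    rcases (inferInstance : IsSimpleGroup T).eq_bot_or_eq_top_of_normal
      (MulAut.conj : T →* MulAut T).ker inferInstance with h | h
    · exact h
    · exfalso
      apply hna
      refine ⟨⟨fun a b => ?_⟩⟩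
      have h1 : MulAut.conj a = 1 := by
        have : a ∈ (MulAut.conj : T →* MulAut T).ker := by rw [h]; exact Subgroup.mem_top a
        exact this
      have h2 := congrArg (fun f : MulAut T => f b) h1
      have h3 : a * b * a⁻¹ = b := h2
      exact mul_inv_eq_iff_eq_mul.1 h3
  have hN : ((MulAut.conj : T →* MulAut T).range).Normal := by
    refine ⟨fun x hx y => ?_⟩
    obtain ⟨g, rfl⟩ := hx
    refine ⟨y g, ?_⟩
    apply MulEquiv.ext
    intro z
    simp [MulAut.conj_apply, MulAut.mul_apply]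
  have hc : Subgroup.centralizer (((MulAut.conj : T →* MulAut T).range : Subgroup _) :
      Set (MulAut T)) = ⊥ := by
    rw [eq_bot_iff]
    intro x hx
    rw [Subgroup.mem_bot]
    apply MulEquiv.ext
    intro g
    have h1 := Subgroup.mem_centralizer_iff.1 hx (MulAut.conj g) ⟨g, rfl⟩
    apply hinj
    have h2 : MulAut.conj (x g) = x * MulAut.conj g * x⁻¹ := by
      apply MulEquiv.ext
      intro y
      simp [MulAut.conj_apply, MulAut.mul_apply]
    rw [h2, ← h1]
    simp
  have hle := TitsK.index_le (K := T) h (MulAut.conj : T →* MulAut T).range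
    ⟨(MonoidHom.ofInjective hinj).symm⟩ hc
  have hcr : Nat.card ↥(MulAut.conj : T →* MulAut T).range = 17971200 := by
    rw [← ho]
    exact (Nat.card_congr (MonoidHom.ofInjective hinj).toEquiv).symm
  have hmul := Subgroup.card_mul_index (MulAut.conj : T →* MulAut T).range
  rw [hcr] at hmul
  have hpos : (MulAut.conj : T →* MulAut T).range.index ≠ 0 := Subgroup.index_ne_zero_of_finite
  have h12 : (MulAut.conj : T →* MulAut T).range.index = 1 ∨
    (MulAut.conj : T →* MulAut T).range.index = 2 := by omega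
  rcases h12 with h1 | h1
  · rw [h1] at hmul
    exact sieve_dead (o := 17971200) (A := 17971200) (n₀ := 13)
      7 60 40 ho (by omega) (by norm_num) (by norm_num) (by norm_num) (by decide +kernel)
      (by decide +kernel) hn
  · rw [h1] at hmul
    exact sieve_dead (o := 17971200) (A := 35942400) (n₀ := 13)
      7 60 40 ho (by omega) (by norm_num) (by norm_num) (by norm_num) (by decide +kernel)
      (by decide +kernel) hn

theorem dead_tits (hC : Core P) (hn : 13 ≤ n) (h : IsoTits (Soc P)) : Dead n (Soc P) := by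
  have h1 := S1074.result.2.2.2
  have hsim := hC.simple
  refine dead_tits_aux hC.nonabelian h ?_ hn
  obtain ⟨e⟩ := h
  exact (Nat.card_congr e.toEquiv).trans (h1.trans (by norm_num))

/-! ### `Sz`, `²G₂`, `²F₄` -/

theorem num12 {m : ℕ} (h3 : 3 ≤ m) : 12 * (2 * m + 1) + 2 ≤ 2 ^ (2 * m + 1) := by
  induction m, h3 using Nat.le_induction with
  | base => norm_num
  | succ m hm3 ih =>
    have : 2 ^ (2 * (m + 1) + 1) = 4 * 2 ^ (2 * m + 1) := by ring
    omega

theorem num36 {m : ℕ} (h3 : 2 ≤ m) : 36 * (2 * m + 1) + 2 ≤ 3 ^ (2 * m + 1) := by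
  induction m, h3 using Nat.le_induction with
  | base => norm_num
  | succ m hm3 ih =>
    have : 3 ^ (2 * (m + 1) + 1) = 9 * 3 ^ (2 * m + 1) := by ring
    omega

theorem two_m_le (m : ℕ) : 2 * m + 1 ≤ 2 ^ (2 * m + 1) := Nat.lt_two_pow_self.le

theorem dead_sz (hC : Core P) (hn : 13 ≤ n) (hp : ¬ p ∣ Nat.card (Soc P)) (h : IsoSuzuki (Soc P)) :
    Dead n (Soc P) := by
  obtain ⟨K, iK, iKf, m, hm, hK, e⟩ := h
  have ho := (S1163.result hm hK).1
  have hr0 : ((2 : ℕ) : F) ≠ 0 := ne_zero hp Nat.prime_two e (by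
    rw [ho]
    simp only [mul_assoc]
    exact Dvd.dvd.mul_right ((dvd_pow_self 2 (by omega)).trans (dvd_pow_self _ (by norm_num))) _)
  have hls := le_of_ls' hC hr0 (H203.LS.LS.sz.{0, u, u} hm hK) e
  rw [Nat.card_eq_fintype_card, hK] at hls
  obtain ⟨e⟩ := e
  have hsim := S1162.result hm hK
  haveI : Finite ↥(Cfsg.Lie.Sz K (2 ^ (m + 1))) := by
    haveI : Finite (Soc P) := inferInstance
    exact Finite.of_equiv _ e.toEquiv
  have hna : ¬ IsMulCommutative ↥(Cfsg.Lie.Sz K (2 ^ (m + 1))) := by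
    intro hcomm
    apply hC.nonabelian
    refine ⟨⟨fun a b => e.injective ?_⟩⟩
    rw [map_mul, map_mul]
    exact hcomm.1.comm _ _
  have hA := card_aut hna
  rw [S2126.result hm hK] at hA
  obtain ⟨s, hs⟩ : ∃ s, s = 2 ^ (2 * m + 1) := ⟨_, rfl⟩
  rw [← hs] at ho hls
  rcases Nat.lt_or_ge m 3 with h3 | h3
  · have h12 : m = 1 ∨ m = 2 := by omega
    rcases h12 with rfl | rfl
    · subst hs
      have ho2 := ho.trans (show _ = 29120 by norm_num)
      exact Dead.congr e.symm (sieve_dead (o := 29120) (A := 87360) (n₀ := 13)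
        3 60 40 ho2 (by rw [hA, ho2]) (by norm_num) (by norm_num) (by norm_num) (by decide +kernel)
        (by decide +kernel) hn)
    · subst hs
      have ho2 := ho.trans (show _ = 32537600 by norm_num)
      exact Dead.congr e.symm (sieve_dead (o := 32537600) (A := 162688000) (n₀ := 31)
        3 60 40 ho2 (by rw [hA, ho2]) (by norm_num) (by norm_num) (by norm_num) (by decide +kernel)
        (by decide +kernel) (by simpa using hls))
  · have h7 : 12 * (2 * m + 1) + 2 ≤ s := by
      rw [hs]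
      exact num12 h3
    have ha : Nat.card (MulAut ↥(Cfsg.Lie.Sz K (2 ^ (m + 1)))) ≤ s ^ 6 := by
      have h8 : (s - 1) * (s ^ 2 + 1) ≤ s ^ 3 := by
        obtain ⟨t, rfl⟩ : ∃ t, s = t + 1 := ⟨s - 1, by omega⟩
        rw [Nat.add_sub_cancel]
        nlinarith [sq_nonneg (t : ℤ), Nat.zero_le t]
      calc Nat.card (MulAut ↥(Cfsg.Lie.Sz K (2 ^ (m + 1)))) = s ^ 2 * (s - 1) * (s ^ 2 + 1) * (2 * m + 1) := by rw [hA, ho]
        _ = s ^ 2 * ((s - 1) * (s ^ 2 + 1)) * (2 * m + 1) := by ring
        _ ≤ s ^ 2 * s ^ 3 * s := Nat.mul_le_mul (Nat.mul_le_mul_left _ h8) (by rw [hs]; exact two_m_le m)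
        _ = s ^ 6 := by ring
    refine dead_of_le (s := s) (a := 6) (k := 0) (b := 2) e (by omega) ha (fun q hq _ => hq) ?_
      (by rw [pow_zero]; omega) (by norm_num) (by rw [pow_zero]; omega)
    rw [pow_zero, mul_one]
    calc s ^ (2 * 6) = 2 ^ (12 * (2 * m + 1)) := by rw [hs, ← pow_mul, mul_comm]
      _ ≤ 2 ^ (s - 1 - 2 + 1) := Nat.pow_le_pow_right (by norm_num) (by omega)
      _ = _ := by rw [pow_succ, mul_comm]

theorem dead_ree (hC : Core P) (hp : ¬ p ∣ Nat.card (Soc P)) (h : IsoRee (Soc P)) :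
    Dead n (Soc P) := by
  obtain ⟨K, iK, iKf, m, hm, hK, e⟩ := h
  have ho := S1069.result hK
  have hr0 : ((3 : ℕ) : F) ≠ 0 := ne_zero hp Nat.prime_three e (by
    rw [ho]
    simp only [mul_assoc]
    exact Dvd.dvd.mul_right ((dvd_pow_self 3 (by omega)).trans (dvd_pow_self _ (by norm_num))) _)
  have hls := le_of_ls' hC hr0 (H203.LS.LS.ree.{0, u, u} hm hK) e
  rw [Nat.card_eq_fintype_card, hK] at hls
  obtain ⟨e⟩ := e
  have hs1 := S1073.result hm hK
  have hsim := hs1.1
  haveI : Finite ↥(twistedG2 K (3 ^ m)) := by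
    haveI : Finite (Soc P) := inferInstance
    exact Finite.of_equiv _ e.toEquiv
  have hA := card_aut hs1.2
  rw [S2127.result hm hK] at hA
  obtain ⟨s, hs⟩ : ∃ s, s = 3 ^ (2 * m + 1) := ⟨_, rfl⟩
  rw [← hs] at ho hls
  rcases Nat.lt_or_ge m 2 with h3 | h3
  · have h12 : m = 1 := by omega
    subst h12
    subst hs
    have ho2 := ho.trans (show _ = 10073444472 by norm_num)
    exact Dead.congr e.symm (sieve_dead (o := 10073444472) (A := 30220333416) (n₀ := 26)
      5 60 40 ho2 (by rw [hA, ho2]) (by norm_num) (by norm_num) (by norm_num) (by decide +kernel)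
      (by decide +kernel) (by simpa using hls))
  · have h7 : 36 * (2 * m + 1) + 2 ≤ s := by
      rw [hs]
      exact num36 h3
    have hms : 2 * m + 1 ≤ s := by omega
    have ha : Nat.card (MulAut ↥(twistedG2 K (3 ^ m))) ≤ s ^ 9 := by
      have h8 : s ^ 3 + 1 ≤ s ^ 4 := by
        have h1 : 1 ≤ s ^ 3 := Nat.one_le_pow _ _ (by omega)
        calc s ^ 3 + 1 ≤ s ^ 3 * 2 := by omega
          _ ≤ s ^ 3 * s := Nat.mul_le_mul_left _ (by omega)
          _ = _ := by ring
      calc Nat.card (MulAut ↥(twistedG2 K (3 ^ m))) = s ^ 3 * (s - 1) * (s ^ 3 + 1) * (2 * m + 1) := by rw [hA, ho]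
        _ ≤ s ^ 3 * s * s ^ 4 * s := by
            gcongr
            exact Nat.sub_le _ _
        _ = s ^ 9 := by ring
    refine dead_of_le (s := s) (a := 9) (k := 0) (b := 2) e (by omega) ha (fun q hq _ => hq) ?_
      (by rw [pow_zero]; omega) (by norm_num) (by rw [pow_zero]; omega)
    rw [pow_zero, mul_one]
    calc s ^ (2 * 9) = 3 ^ (18 * (2 * m + 1)) := by rw [hs, ← pow_mul, mul_comm]
      _ ≤ (2 ^ 2) ^ (18 * (2 * m + 1)) := Nat.pow_le_pow_left (by norm_num) _
      _ = 2 ^ (36 * (2 * m + 1)) := by rw [← pow_mul]; congr 1; ring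
      _ ≤ 2 ^ (s - 1 - 2 + 1) := Nat.pow_le_pow_right (by norm_num) (by omega)
      _ = _ := by rw [pow_succ, mul_comm]

theorem dead_twF4 (hC : Core P) (hp : ¬ p ∣ Nat.card (Soc P)) (h : Iso2F4 (Soc P)) :
    Dead n (Soc P) := by
  obtain ⟨K, iK, iKf, m, hm, hK, e⟩ := h
  have ho := S1068.result hK
  have hr0 : ((2 : ℕ) : F) ≠ 0 := ne_zero hp Nat.prime_two e (by
    rw [ho]
    simp only [mul_assoc]
    exact Dvd.dvd.mul_right ((dvd_pow_self 2 (by omega)).trans (dvd_pow_self _ (by norm_num))) _)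
  have hls := le_of_ls' hC hr0 (H203.LS.TwF4.ls.{0, u, u} hm hK) e
  rw [Nat.card_eq_fintype_card, hK] at hls
  obtain ⟨e⟩ := e
  have hs1 := S1072.result hm hK
  have hsim := hs1.1
  haveI : Finite ↥(twistedF4 K (2 ^ m)) := by
    haveI : Finite (Soc P) := inferInstance
    exact Finite.of_equiv _ e.toEquiv
  have hA := card_aut hs1.2
  rw [S2128.result hm hK] at hA
  obtain ⟨s, hs⟩ : ∃ s, s = 2 ^ (2 * m + 1) := ⟨_, rfl⟩
  rw [← hs] at ho hls
  have h8 : 8 ≤ s := by
    rw [hs]
    calc 8 = 2 ^ 3 := by norm_num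
      _ ≤ _ := Nat.pow_le_pow_right (by norm_num) (by omega)
  have hsucc : ∀ k, s ^ k + 1 ≤ s ^ (k + 1) := by
    intro k
    have h1 : 1 ≤ s ^ k := Nat.one_le_pow _ _ (by omega)
    calc s ^ k + 1 ≤ s ^ k * 2 := by omega
      _ ≤ s ^ k * s := Nat.mul_le_mul_left _ (by omega)
      _ = _ := (pow_succ _ _).symm
  have ha : Nat.card (MulAut ↥(twistedF4 K (2 ^ m))) ≤ s ^ 29 := by
    calc Nat.card (MulAut ↥(twistedF4 K (2 ^ m))) =
        s ^ 12 * (s - 1) * (s ^ 3 + 1) * (s ^ 4 - 1) * (s ^ 6 + 1) * (2 * m + 1) := by rw [hA, ho]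
      _ ≤ s ^ 12 * s * s ^ 4 * s ^ 4 * s ^ 7 * s := by
          gcongr
          · exact Nat.sub_le _ _
          · exact hsucc 3
          · exact Nat.sub_le _ _
          · exact hsucc 6
          · rw [hs]; exact two_m_le m
      _ = s ^ 29 := by ring
  have h6 : 2 * 29 < s ^ 2 := lt_of_lt_of_le (by norm_num) (Nat.pow_le_pow_left h8 2)
  obtain ⟨h7, h9⟩ := num_two (s := s) (a := 29) (k := 2) (by omega) (by norm_num) h6
  exact dead_of_le e (by omega) ha (fun q hq _ => hq) h7 h9 (by norm_num) hls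

end rows

end Cfsg.Agent.H452.HT.Ex
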