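import Cfsg.Agent.H452.HT.DeadE
import Cfsg.Agent.H452.HT.DeadEx
import Cfsg.Prelude.Def_LieTypeChar

/-!
# S3540, quasisimple rows, tasks B7 and B8: the exceptional groups, `n ≥ 13` (helper452)
-/

set_option autoImplicit false

universe u v

namespace Cfsg.Agent.H452.HT

open Cfsg Cfsg.Lie Cfsg.Agent.H915.LD Cfsg.Agent.H337.HT

variable {F : Type u} [Field F] [Finite F] {n p : ℕ} [Fact p.Prime] [CharP F p]
  {P : Subgroup (Matrix.GeneralLinearGroup (Fin n) F)}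

/-- **B7** -/
theorem dead_chev (hC : Core P) (hn : 13 ≤ n) (hp : ¬ p ∣ Nat.card (Soc P)) (r : ℕ)
    (hT : Cfsg.IsExceptionalChevChar r (Soc P)) : Dead n (Soc P) := by
  obtain ⟨K, iK, iKf, hK, h | h | h | h | h⟩ := hT
  · exact Ex.dead_G2 hC hn hp h.1 h.2
  · exact Tw.dead_F4 hC hp h
  · exact dead_E6 hC hp h
  · exact dead_E7 hC hp h
  · exact dead_E8 hC hp h

/-- **B8** -/
theorem dead_twisted (hC : Core P) (hn : 13 ≤ n) (hp : ¬ p ∣ Nat.card (Soc P))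
    (hT : (∃ r, Cfsg.IsTwistedE6D4Char r (Soc P)) ∨ Cfsg.Lie.IsoSuzuki (Soc P) ∨ Cfsg.Lie.Iso2F4 (Soc P) ∨
      Cfsg.Lie.IsoRee (Soc P) ∨ Cfsg.Lie.IsoTits (Soc P)) : Dead n (Soc P) := by
  rcases hT with ⟨r, K, iK, iKf, hK, q, hq, ⟨h1, h2⟩ | ⟨h1, h2⟩⟩ | h | h | h | h
  · exact Tw.dead_twE6 hC hp hq h1 h2
  · exact Tw.dead_twD4 hC hp hq h1 h2
  · exact Ex.dead_sz hC hn hp h
  · exact Ex.dead_twF4 hC hp h
  · exact Ex.dead_ree hC hp h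
  · exact Ex.dead_tits hC hn h

end Cfsg.Agent.H452.HT
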