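import Cfsg.Agent.H203.LSTwE6
import Cfsg.Agent.H203.LSTwD4
import Cfsg.Agent.H203.LSF4even
import Cfsg.Agent.H203.LSF4odd
import Cfsg.Agent.H936.F42Light
import Cfsg.Agent.H337.HT.Num
import Cfsg.Agent.H912.LSUse
import Cfsg.Agent.H915.LD
import Cfsg.Agent.S1062
import Cfsg.Agent.S1066
import Cfsg.Agent.S1067
import Cfsg.Agent.S1070
import Cfsg.Agent.S1071
import Cfsg.Agent.S2122
import Cfsg.Agent.S2129
import Cfsg.Agent.S2130

/-!
# S3540, quasisimple rows: `F4(s)`, `³D₄(s)`, `²E₆(s)` in cross characteristic (helper452)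

`dead_F4`, `dead_twD4`, `dead_twE6`.
-/

set_option autoImplicit false

universe u v

namespace Cfsg.Agent.H452.HT.Tw

open Cfsg Cfsg.Lie Cfsg.Agent.H915.LD Cfsg.Agent.H337.HT

/-- the least degree -/
theorem le_of_ls' {F : Type u} [Field F] [Finite F] {n : ℕ} {P : Subgroup (Matrix.GeneralLinearGroup (Fin n) F)}
    (hC : Core P) {r d : ℕ} (hr : (r : F) ≠ 0)
    {T : Type v} [Group T] (h : H203.LS.LS.{v, u, u} r d T) (e : Nonempty (Soc P ≃* T)) : d ≤ n := by
  have hs : IsSimpleGroup (Soc P) := hC.simple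
  obtain ⟨e⟩ := e
  have : Nontrivial T := e.symm.toEquiv.nontrivial
  exact Cfsg.Agent.H912.Bd.le_of_ls h hr P hC.perfect e

/-- `|Aut T| = |T| |Out T|` -/
theorem card_aut {T : Type v} [Group T] [IsSimpleGroup T] (hna : ¬ IsMulCommutative T) :
    Nat.card (MulAut T) = Nat.card T * Nat.card (Cfsg.Out T) := by
  have hinj : Function.Injective (MulAut.conj : T →* MulAut T) := by
    rw [← MonoidHom.ker_eq_bot_iff]
    rcases (inferInstance : IsSimpleGroup T).eq_bot_or_eq_top_of_normal (MulAut.conj : T →* MulAut T).ker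
      inferInstance with h | h
    · exact h
    · exfalso
      apply hna
      refine ⟨⟨fun a b => ?_⟩⟩
      have h1 : MulAut.conj a = 1 := by
        have : a ∈ (MulAut.conj : T →* MulAut T).ker := by rw [h]; exact Subgroup.mem_top a
        exact this
      have h2 := congrArg (fun f : MulAut T => f b) h1
      have h3 : a * b * a⁻¹ = b := h2
      exact mul_inv_eq_iff_eq_mul.1 h3
  have h1 := Subgroup.card_eq_card_quotient_mul_card_subgroup (Cfsg.Inn T)
  have h2 : Nat.card ↥(Cfsg.Inn T) = Nat.card T :=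
    (Nat.card_congr (MonoidHom.ofInjective hinj).toEquiv).symm
  rw [h1, h2, mul_comm]

theorem le_two_pow (s : ℕ) (hs : 1 ≤ s) : s ≤ 2 ^ (s - 1) := by
  obtain ⟨t, rfl⟩ : ∃ t, s = t + 1 := ⟨s - 1, by omega⟩
  rw [Nat.add_sub_cancel]
  exact Nat.lt_two_pow_self

/-- `r` is not zero in `F` -/
theorem ne_zero {F : Type u} [Field F] {n p : ℕ} [Fact p.Prime] [CharP F p]
    {P : Subgroup (Matrix.GeneralLinearGroup (Fin n) F)} (hp : ¬ p ∣ Nat.card (Soc P)) {r : ℕ} (hr : r.Prime)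
    {T : Type v} [Group T] (e : Nonempty (Soc P ≃* T)) (hd : r ∣ Nat.card T) : (r : F) ≠ 0 := by
  intro h0
  have h1 : p = r := (Nat.prime_dvd_prime_iff_eq Fact.out hr).1 ((CharP.cast_eq_zero_iff F p r).1 h0)
  apply hp
  obtain ⟨e⟩ := e
  rw [Nat.card_congr e.toEquiv, h1]
  exact hd

/-- the size criterion -/
theorem dead_of_le {T : Type v} [Group T] [Finite T] {S : Type u} [Group S] (e : S ≃* T) {s a b k n : ℕ} (hs : 2 ≤ s)
    (ha : Nat.card (MulAut T) ≤ s ^ a) (hb : ∀ q, 2 ≤ q → q.Coprime (Nat.card T) → b ≤ q)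
    (hnum : s ^ (2 * a) ≤ 2 * b ^ ((s - 1) * s ^ k - 2)) (h2 : 2 ≤ (s - 1) * s ^ k) (hb1 : 1 ≤ b)
    (hn : (s - 1) * s ^ k ≤ n) : Dead n S := by
  refine Dead.congr e.symm (dead_of_pow (h2.trans hn) hb ?_)
  calc Nat.card (MulAut T) ^ 2 ≤ (s ^ a) ^ 2 := Nat.pow_le_pow_left ha 2
    _ = s ^ (2 * a) := by rw [← pow_mul, mul_comm]
    _ ≤ _ := hnum
    _ ≤ _ := Nat.mul_le_mul_left 2 (Nat.pow_le_pow_right hb1 (by omega))

theorem num_two {s a k : ℕ} (hs : 2 ≤ s) (ha : 1 ≤ a) (h : 2 * a < s ^ k) :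
    s ^ (2 * a) ≤ 2 * 2 ^ ((s - 1) * s ^ k - 2) ∧ 2 ≤ (s - 1) * s ^ k := by
  have h1 : (s - 1) * (2 * a + 1) ≤ (s - 1) * s ^ k := Nat.mul_le_mul_left _ h
  have h2 : (s - 1) * (2 * a + 1) = (s - 1) * (2 * a) + (s - 1) := by ring
  have h3 : 1 * (2 * a) ≤ (s - 1) * (2 * a) := Nat.mul_le_mul_right _ (by omega)
  have h4 : 2 ≤ (s - 1) * s ^ k := by omega
  refine ⟨?_, h4⟩
  calc s ^ (2 * a) ≤ (2 ^ (s - 1)) ^ (2 * a) := Nat.pow_le_pow_left (le_two_pow s (by omega)) _
    _ = 2 ^ ((s - 1) * (2 * a)) := (pow_mul _ _ _).symm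
    _ ≤ 2 ^ ((s - 1) * s ^ k - 2 + 1) := Nat.pow_le_pow_right (by norm_num) (by omega)
    _ = _ := by rw [pow_succ, mul_comm]

/-- the prime of a prime power field -/
theorem exists_prime {K : Type v} [Field K] [Fintype K] {q m : ℕ} (hq : IsPrimePow q) (hm : m ≠ 0)
    (hK : Fintype.card K = q ^ m) :
    ∃ r f, r.Prime ∧ CharP K r ∧ 1 ≤ f ∧ q = r ^ f ∧ f < q ∧ r ∣ q := by
  obtain ⟨r, hrc⟩ := CharP.exists K
  have hr : r.Prime := (CharP.char_is_prime_or_zero K r).resolve_right (CharP.char_ne_zero_of_finite K r)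
  haveI : Fact r.Prime := ⟨hr⟩
  obtain ⟨k, -, hk⟩ := FiniteField.card K r
  obtain ⟨p, f, hp, hf, rfl⟩ := (isPrimePow_nat_iff q).1 hq
  have h1 : p ∣ r ^ (k : ℕ) := by
    rw [← hk, hK]
    exact (dvd_pow_self p hf.ne').trans (dvd_pow_self _ hm)
  have h2 : p = r := (Nat.prime_dvd_prime_iff_eq hp hr).1 (hp.dvd_of_dvd_pow h1)
  subst h2
  exact ⟨p, f, hp, hrc, hf, rfl, Nat.lt_pow_self hp.one_lt, dvd_pow_self p hf.ne'⟩

section rows

variable {F : Type u} [Field F] [Finite F] {n p : ℕ} [Fact p.Prime] [CharP F p]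
  {P : Subgroup (Matrix.GeneralLinearGroup (Fin n) F)} {K : Type} [Field K] [Fintype K]

theorem coprime_gcd (m s : ℕ) (hs : 1 ≤ s) : Nat.Coprime s (Nat.gcd m (s + 1)) := by
  have h1 : Nat.Coprime s (s + 1) := by simp
  exact h1.coprime_dvd_right (Nat.gcd_dvd_right _ _)

/-! ### `²E₆` -/

theorem card_twE6_le {q : ℕ} (hq : IsPrimePow q) (hK : Fintype.card K = q ^ 2) :
    Nat.gcd 3 (q + 1) * Nat.card (twistedE6 K q) ≤ q ^ 80 := by
  have h2 := hq.two_le
  rw [S1066.result hq hK]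
  have h5 : q ^ 5 + 1 ≤ q ^ 6 := by
    have : 1 ≤ q ^ 5 := Nat.one_le_pow _ _ (by omega)
    calc q ^ 5 + 1 ≤ q ^ 5 * 2 := by omega
      _ ≤ q ^ 5 * q := Nat.mul_le_mul_left _ h2
      _ = _ := by ring
  have h9 : q ^ 9 + 1 ≤ q ^ 10 := by
    have : 1 ≤ q ^ 9 := Nat.one_le_pow _ _ (by omega)
    calc q ^ 9 + 1 ≤ q ^ 9 * 2 := by omega
      _ ≤ q ^ 9 * q := Nat.mul_le_mul_left _ h2
      _ = _ := by ring
  calc q ^ 36 * (q ^ 2 - 1) * (q ^ 5 + 1) * (q ^ 6 - 1) * (q ^ 8 - 1) * (q ^ 9 + 1) * (q ^ 12 - 1)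
      ≤ q ^ 36 * q ^ 2 * q ^ 6 * q ^ 6 * q ^ 8 * q ^ 10 * q ^ 12 := by
        gcongr <;> exact Nat.sub_le _ _
    _ = q ^ 80 := by ring

theorem dvd_twE6 {q : ℕ} (hq : IsPrimePow q) (hK : Fintype.card K = q ^ 2) :
    q ∣ Nat.card (twistedE6 K q) := by
  have h2 := hq.two_le
  refine (coprime_gcd 3 q (by omega)).dvd_of_dvd_mul_left (?_ : q ∣ Nat.gcd 3 (q + 1) * _)
  rw [S1066.result hq hK]
  simp only [mul_assoc]
  exact Dvd.dvd.mul_right (dvd_pow_self q (by norm_num)) _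

theorem dead_twE6 (hC : Core P) (hp : ¬ p ∣ Nat.card (Soc P)) {q : ℕ} (hq : IsPrimePow q)
    (hK : Fintype.card K = q ^ 2) (e : Nonempty (Soc P ≃* twistedE6 K q)) : Dead n (Soc P) := by
  obtain ⟨r, f, hr, hrc, hf, hqf, hfq, hrq⟩ := exists_prime hq (by norm_num) hK
  have hr' : Fact r.Prime := ⟨hr⟩
  have hr0 : (r : F) ≠ 0 := ne_zero hp hr e (hrq.trans (dvd_twE6 hq hK))
  have hn := le_of_ls' hC hr0 (H203.LS.TwE6.ls.{0, u, u} (r := r) hq hK) e
  obtain ⟨e⟩ := e
  have hs := S1070.result hq hK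
  have hsim := hs.1
  have hout : Nat.card (Cfsg.Out ↥(twistedE6 K q)) = 2 * Nat.gcd 3 (q + 1) * f := by
    have := S2130.result (K := K) r f (by rw [hK, hqf, ← pow_mul, mul_comm]) hf
    rw [← hqf] at this
    exact this
  haveI : Finite (twistedE6 K q) := by
    haveI : Finite (Soc P) := inferInstance
    exact Finite.of_equiv _ e.toEquiv
  have hA := card_aut hs.2
  rw [hout] at hA
  have h2 := hq.two_le
  rcases h2.eq_or_lt with h | h3
  · subst h
    have hf1 : f = 1 := by omega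
    subst hf1
    have ho : Nat.card (twistedE6 K 2) = 76532479683774853939200 := by
      have := S1066.result hq hK
      norm_num at this
      omega
    refine Dead.congr e.symm (sieve_dead (o := 76532479683774853939200) (A := 6 * 76532479683774853939200) (n₀ := 64)
      23 1 1 ho (by rw [hA, ho]; norm_num) (by norm_num) (by norm_num) (by norm_num) (by decide +kernel)
      (by decide +kernel) (by simpa using hn))
  · have ha : Nat.card (MulAut (twistedE6 K q)) ≤ q ^ 82 := by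
      calc Nat.card (MulAut (twistedE6 K q)) = (Nat.gcd 3 (q + 1) * Nat.card (twistedE6 K q)) * (2 * f) := by
            rw [hA]; ring
        _ ≤ q ^ 80 * (q * q) := Nat.mul_le_mul (card_twE6_le hq hK) (Nat.mul_le_mul h2 hfq.le)
        _ = q ^ 82 := by ring
    have h6 : 2 * 82 < q ^ 6 := lt_of_lt_of_le (by norm_num) (Nat.pow_le_pow_left h3 6)
    obtain ⟨h7, h8⟩ := num_two (s := q) (a := 82) (k := 6) h2 (by norm_num) h6
    exact dead_of_le e h2 ha (fun q hq _ => hq) h7 h8 (by norm_num) hn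

/-! ### `³D₄` -/

theorem card_twD4_le {q : ℕ} (hq : IsPrimePow q) (hK : Fintype.card K = q ^ 3) :
    Nat.card (twistedD4 K q) ≤ q ^ 29 := by
  have h2 := hq.two_le
  rw [S1067.result hq hK]
  have h5 : q ^ 8 + q ^ 4 + 1 ≤ q ^ 9 := by
    have h1 : 2 ≤ q ^ 4 := h2.trans (Nat.le_self_pow (by norm_num) q)
    have h3 : q ^ 4 + 1 ≤ q ^ 8 := by
      calc q ^ 4 + 1 ≤ q ^ 4 * 2 := by omega
        _ ≤ q ^ 4 * q ^ 4 := Nat.mul_le_mul_left _ h1
        _ = _ := by ring
    calc q ^ 8 + q ^ 4 + 1 ≤ q ^ 8 * 2 := by omega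
      _ ≤ q ^ 8 * q := Nat.mul_le_mul_left _ h2
      _ = _ := by ring
  calc q ^ 12 * (q ^ 2 - 1) * (q ^ 6 - 1) * (q ^ 8 + q ^ 4 + 1)
      ≤ q ^ 12 * q ^ 2 * q ^ 6 * q ^ 9 := by
        gcongr <;> exact Nat.sub_le _ _
    _ = q ^ 29 := by ring

theorem dvd_twD4 {q : ℕ} (hq : IsPrimePow q) (hK : Fintype.card K = q ^ 3) :
    q ∣ Nat.card (twistedD4 K q) := by
  rw [S1067.result hq hK]
  simp only [mul_assoc]
  exact Dvd.dvd.mul_right (dvd_pow_self q (by norm_num)) _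

theorem dead_twD4 (hC : Core P) (hp : ¬ p ∣ Nat.card (Soc P)) {q : ℕ} (hq : IsPrimePow q)
    (hK : Fintype.card K = q ^ 3) (e : Nonempty (Soc P ≃* twistedD4 K q)) : Dead n (Soc P) := by
  obtain ⟨r, f, hr, hrc, hf, hqf, hfq, hrq⟩ := exists_prime hq (by norm_num) hK
  have hr' : Fact r.Prime := ⟨hr⟩
  have hr0 : (r : F) ≠ 0 := ne_zero hp hr e (hrq.trans (dvd_twD4 hq hK))
  have hn := le_of_ls' hC hr0 (H203.LS.TwD4.ls.{0, u, u} (r := r) hq hK) e
  obtain ⟨e⟩ := e
  have hs := S1071.result hq hK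
  have hsim := hs.1
  have hout : Nat.card (Cfsg.Out ↥(twistedD4 K q)) = 3 * f := by
    have := S2129.result (K := K) r f (by rw [hK, hqf, ← pow_mul, mul_comm]) hf
    rw [← hqf] at this
    exact this
  haveI : Finite (twistedD4 K q) := by
    haveI : Finite (Soc P) := inferInstance
    exact Finite.of_equiv _ e.toEquiv
  have hA := card_aut hs.2
  rw [hout] at hA
  have h2 := hq.two_le
  rcases h2.eq_or_lt with h | h3
  · subst h
    have hf1 : f = 1 := by omega
    subst hf1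
    have ho : Nat.card (twistedD4 K 2) = 211341312 := by
      have := S1067.result hq hK
      norm_num at this
      omega
    refine Dead.congr e.symm (sieve_dead (o := 211341312) (A := 634023936) (n₀ := 16)
      5 60 40 ho (by rw [hA, ho]) (by norm_num) (by norm_num) (by norm_num) (by decide +kernel)
      (by decide +kernel) (by simpa using hn))
  · have ha : Nat.card (MulAut (twistedD4 K q)) ≤ q ^ 31 := by
      have h4 : 3 * f ≤ q ^ 2 := by
        obtain ⟨t, ht⟩ : ∃ t, q = t + 3 := ⟨q - 3, by omega⟩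
        have h5 : f ≤ t + 2 := by omega
        rw [ht]
        nlinarith
      calc Nat.card (MulAut (twistedD4 K q)) = Nat.card (twistedD4 K q) * (3 * f) := hA
        _ ≤ q ^ 29 * q ^ 2 := Nat.mul_le_mul (card_twD4_le hq hK) h4
        _ = q ^ 31 := by ring
    have h6 : 2 * 31 < q ^ 4 := lt_of_lt_of_le (by norm_num) (Nat.pow_le_pow_left h3 4)
    obtain ⟨h7, h8⟩ := num_two (s := q) (a := 31) (k := 4) h2 (by norm_num) h6
    exact dead_of_le e h2 ha (fun q hq _ => hq) h7 h8 (by norm_num) hn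

/-! ### `F₄` -/

theorem card_F4_le {s : ℕ} (hs : Fintype.card K = s) : Nat.card (chevF4.group K) ≤ s ^ 52 := by
  rw [S1062.result hs]
  calc s ^ 24 * (s ^ 2 - 1) * (s ^ 6 - 1) * (s ^ 8 - 1) * (s ^ 12 - 1)
      ≤ s ^ 24 * s ^ 2 * s ^ 6 * s ^ 8 * s ^ 12 := by gcongr <;> exact Nat.sub_le _ _
    _ = s ^ 52 := by ring

theorem dvd_F4 {s : ℕ} (hs : Fintype.card K = s) : s ∣ Nat.card (chevF4.group K) := by
  rw [S1062.result hs]
  simp only [mul_assoc]
  exact Dvd.dvd.mul_right (dvd_pow_self s (by norm_num)) _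

theorem dead_F4 (hC : Core P) (hp : ¬ p ∣ Nat.card (Soc P)) (e : Nonempty (Soc P ≃* chevF4.group K)) :
    Dead n (Soc P) := by
  obtain ⟨r, f, hr, hrc, hf, hqf, hfq, hrq⟩ := exists_prime (K := K) (q := Fintype.card K) (m := 1)
    (FiniteField.isPrimePow_card K) (by norm_num) (pow_one _).symm
  have hr' : Fact r.Prime := ⟨hr⟩
  have hr0 : (r : F) ≠ 0 := ne_zero hp hr e (hrq.trans (dvd_F4 rfl))
  have hs := S1054.result (F := K) chevF4 (by simp)
  have hsim := hs.1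
  have hA := card_aut hs.2
  rw [S2122.result (F := K) r f hqf] at hA
  have h2 : 2 ≤ Fintype.card K := Fintype.one_lt_card
  obtain ⟨s, hs'⟩ : ∃ s, s = Fintype.card K := ⟨_, rfl⟩
  have hn : 3 ≤ s → (s - 1) * s ^ 4 ≤ n := by
    intro h3
    rw [hs', ← Nat.card_eq_fintype_card]
    by_cases h0 : (2 : K) = 0
    · exact le_of_ls' hC hr0 (H203.LS.F4even.ls_even.{0, u, u} (r := r) K h0
        (by rw [Nat.card_eq_fintype_card]; omega)) e
    · exact le_of_ls' hC hr0 (H203.LS.F4odd.ls_odd.{0, u, u} (r := r) K h0) e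
  have hn2 : s = 2 → 16 ≤ n := by
    intro h2'
    have hr2 : r = 2 := by
      rw [← hs', h2'] at hrq
      exact (Nat.prime_dvd_prime_iff_eq hr Nat.prime_two).1 hrq
    subst hr2
    exact le_of_ls' hC hr0 (H936.F42.ls_f4_two.{0, u, u} (by omega)) e
  obtain ⟨e⟩ := e
  haveI : Finite (chevF4.group K) := by
    haveI : Finite (Soc P) := inferInstance
    exact Finite.of_equiv _ e.toEquiv
  rw [← hs'] at h2 hqf hfq
  have ho := S1062.result hs'.symm
  rcases h2.eq_or_lt with h | h3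
  · subst h
    have hr2 : r = 2 := by
      rw [← hs'] at hrq
      exact (Nat.prime_dvd_prime_iff_eq hr Nat.prime_two).1 hrq
    subst hr2
    have hf1 : f = 1 := by omega
    subst hf1
    norm_num at ho
    refine Dead.congr e.symm (sieve_dead (o := 3311126603366400) (A := 6622253206732800) (n₀ := 16)
      11 200 60 ho (by rw [hA, ho]; norm_num) (by norm_num) (by norm_num) (by norm_num) (by decide +kernel)
      (by decide +kernel) (hn2 rfl))
  · have hg : Nat.gcd 2 r ≤ 2 := Nat.gcd_le_left _ (by norm_num)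
    have ha : Nat.card (MulAut (chevF4.group K)) ≤ s ^ 54 := by
      calc Nat.card (MulAut (chevF4.group K)) = Nat.card (chevF4.group K) * (Nat.gcd 2 r * f) := hA
        _ ≤ s ^ 52 * (s * s) := Nat.mul_le_mul (card_F4_le hs'.symm) (Nat.mul_le_mul (hg.trans h2) hfq.le)
        _ = s ^ 54 := by ring
    rcases Nat.eq_or_lt_of_le h3 with h | h4
    · subst h
      norm_num at ho
      refine dead_of_le (b := 5) (k := 4) e h2 ha (fun q hq hc => ?_) (by norm_num) (by norm_num) (by norm_num)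
        (hn h3)
      rw [ho] at hc
      have h7 : Nat.Coprime q 6 := hc.coprime_dvd_right (by norm_num)
      by_contra hlt
      have : q = 2 ∨ q = 3 ∨ q = 4 := by omega
      rcases this with rfl | rfl | rfl <;> revert h7 <;> decide
    · have h6 : 2 * 54 < s ^ 4 := lt_of_lt_of_le (by norm_num) (Nat.pow_le_pow_left h4 4)
      obtain ⟨h7, h8⟩ := num_two (s := s) (a := 54) (k := 4) h2 (by norm_num) h6
      exact dead_of_le e h2 ha (fun q hq _ => hq) h7 h8 (by norm_num) (hn h3)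

end rows

end Cfsg.Agent.H452.HT.Tw
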